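import Cfsg.Agent.H36.EPL.Psl
import Cfsg.Agent.H173.EP.LineBound
import Cfsg.Agent.H419.EP.Soc
import Cfsg.Agent.S0813
import Cfsg.Agent.S0265
import Cfsg.Agent.S0242
import Cfsg.Agent.S2602
import Cfsg.Agent.S0292
import Cfsg.Agent.H775.EP.ModelOmega
import Cfsg.Agent.H765.EPR.SpTen
import Cfsg.Agent.H955.Sp

/-!
# S3499: `soc(A) = PSL₂(K)` gives `|Q| ≤ |K|¹⁷` (helper36)
-/

set_option autoImplicit false

namespace Cfsg.Agent.H36.EPL

open Subgroup Cfsg.Agent.H284 Cfsg.Agent.H419.EP Cfsg.Agent.H273.EPU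
open scoped MatrixGroups commutatorElement

section

variable {K : Type} [Field K] [Fintype K]

theorem card_psl_lt : Nat.card (Matrix.ProjectiveSpecialLinearGroup (Fin 2) K) ≤ Fintype.card K ^ 3 := by
  have h1 : Nat.card (Matrix.ProjectiveSpecialLinearGroup (Fin 2) K) ≤ Nat.card (Matrix.SpecialLinearGroup (Fin 2) K) :=
    Nat.card_le_card_of_surjective _ (QuotientGroup.mk_surjective)
  refine h1.trans ?_
  have h2 := Cfsg.Agent.S0242.result (F := K) rfl 2 (by norm_num)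
  rw [Fin.prod_univ_two] at h2
  set q := Fintype.card K with hq
  have hq1 : 1 < q := Fintype.one_lt_card
  have h4 : (q - 1) * Nat.card (Matrix.SpecialLinearGroup (Fin 2) K) ≤ (q - 1) * q ^ 3 := by
    rw [h2]
    simp only [Fin.val_zero, pow_zero, Fin.val_one, pow_one]
    have e : q ^ 2 - q = (q - 1) * q := by rw [Nat.sub_mul, one_mul, sq]
    rw [e]
    calc (q ^ 2 - 1) * ((q - 1) * q) ≤ q ^ 2 * ((q - 1) * q) := Nat.mul_le_mul_right _ (Nat.sub_le _ _)
      _ = (q - 1) * q ^ 3 := by ring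
  exact Nat.le_of_mul_le_mul_left h4 (by omega)

theorem card_sl_lt : Nat.card (Matrix.SpecialLinearGroup (Fin 2) K) ≤ Fintype.card K ^ 3 := by
  have h2 := Cfsg.Agent.S0242.result (F := K) rfl 2 (by norm_num)
  rw [Fin.prod_univ_two] at h2
  set q := Fintype.card K with hq
  have hq1 : 1 < q := Fintype.one_lt_card
  have h4 : (q - 1) * Nat.card (Matrix.SpecialLinearGroup (Fin 2) K) ≤ (q - 1) * q ^ 3 := by
    rw [h2]
    simp only [Fin.val_zero, pow_zero, Fin.val_one, pow_one]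
    have e : q ^ 2 - q = (q - 1) * q := by rw [Nat.sub_mul, one_mul, sq]
    rw [e]
    calc (q ^ 2 - 1) * ((q - 1) * q) ≤ q ^ 2 * ((q - 1) * q) := Nat.mul_le_mul_right _ (Nat.sub_le _ _)
      _ = (q - 1) * q ^ 3 := by ring
  exact Nat.le_of_mul_le_mul_left h4 (by omega)

theorem card_mulAut_le (h4 : 4 ≤ Fintype.card K) :
    Nat.card (MulAut (Matrix.ProjectiveSpecialLinearGroup (Fin 2) K)) ≤ Fintype.card K ^ 4 := by
  obtain ⟨p, hp⟩ := CharP.exists K
  haveI : Fact p.Prime := ⟨CharP.char_is_prime K p⟩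
  obtain ⟨f, _, hF⟩ := FiniteField.card K p
  have h1 := Cfsg.Agent.S0813.result p f f.2 hF 2 le_rfl (fun _ => by rw [← hF]; exact h4)
  rw [if_pos rfl, one_mul, Cfsg.Agent.S0265.result] at h1
  rw [h1]
  have hfq : (f : ℕ) < Fintype.card K := by
    rw [hF]
    exact Nat.lt_pow_self (Fact.out : p.Prime).one_lt
  calc (f : ℕ) * Nat.card (Matrix.SpecialLinearGroup (Fin 2) K) ≤ Fintype.card K * Fintype.card K ^ 3 :=
        Nat.mul_le_mul hfq.le card_sl_lt
    _ = Fintype.card K ^ 4 := by ring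

/-- `Out(PSL₂(K))` is commutative -/
theorem out_comm (h4 : 4 ≤ Fintype.card K) (a b : Cfsg.Out (Matrix.ProjectiveSpecialLinearGroup (Fin 2) K)) :
    a * b = b * a := by
  classical
  obtain ⟨p, hp⟩ := CharP.exists K
  haveI : Fact p.Prime := ⟨CharP.char_is_prime K p⟩
  obtain ⟨f, _, hF⟩ := FiniteField.card K p
  obtain ⟨φ, hφ, hc, hk⟩ := Cfsg.Agent.S2602.result (F := K) (p := p) (f := f) f.2 hF (by rw [← hF]; exact h4)
  have hk2 : Nat.card φ.ker ≤ 2 := by
    rw [hk]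
    exact Nat.gcd_le_left _ (by norm_num)
  -- the kernel is central
  have hcen : ∀ z ∈ φ.ker, ∀ x, x * z = z * x := by
    intro z hz x
    by_cases hz1 : z = 1
    · rw [hz1, mul_one, one_mul]
    · have hfin : Finite φ.ker := Nat.finite_of_card_ne_zero (by
        rw [hk]
        exact (Nat.gcd_pos_of_pos_left _ (by norm_num)).ne')
      have hx : x * z * x⁻¹ ∈ φ.ker := by
        have : φ.ker.Normal := inferInstance
        exact this.conj_mem z hz x
      have h5 : x * z * x⁻¹ = z := by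
        by_contra hne
        have hx1 : x * z * x⁻¹ ≠ 1 := by
          intro e
          apply hz1
          have : z = x⁻¹ * (x * z * x⁻¹) * x := by group
          rw [this, e]
          group
        have hfs := Fintype.ofFinite φ.ker
        rw [Nat.card_eq_fintype_card] at hk2
        have h6 : ({(1 : φ.ker), ⟨z, hz⟩, ⟨x * z * x⁻¹, hx⟩} : Finset φ.ker).card = 3 := by
          rw [Finset.card_eq_three]
          refine ⟨1, ⟨z, hz⟩, ⟨x * z * x⁻¹, hx⟩, ?_, ?_, ?_, rfl⟩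
          · intro e
            exact hz1 (congrArg Subtype.val e).symm
          · intro e
            exact hx1 (congrArg Subtype.val e).symm
          · intro e
            exact hne (congrArg Subtype.val e).symm
        have h7 := Finset.card_le_univ ({(1 : φ.ker), ⟨z, hz⟩, ⟨x * z * x⁻¹, hx⟩} : Finset φ.ker)
        omega
      calc x * z = x * z * x⁻¹ * x := by group
        _ = z * x := by rw [h5]
  -- the quotient is cyclic
  obtain ⟨g, hg⟩ := hφ (Multiplicative.ofAdd 1)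
  have hgen : ∀ x, ∃ (n : ℤ), ∃ z ∈ φ.ker, x = g ^ n * z := by
    intro x
    obtain ⟨n, hn⟩ : ∃ n : ℤ, φ x = (Multiplicative.ofAdd (1 : ZMod f)) ^ n := by
      obtain ⟨n, hn⟩ := ZMod.intCast_surjective (Multiplicative.toAdd (φ x))
      refine ⟨n, ?_⟩
      apply Multiplicative.toAdd.injective
      rw [toAdd_zpow, toAdd_ofAdd, ← hn, zsmul_one]
    refine ⟨n, (g ^ n)⁻¹ * x, ?_, by rw [mul_inv_cancel_left]⟩
    rw [MonoidHom.mem_ker, map_mul, map_inv, map_zpow, hg, hn, inv_mul_cancel]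
  obtain ⟨n, z, hz, rfl⟩ := hgen a
  obtain ⟨m, w, hw, rfl⟩ := hgen b
  calc g ^ n * z * (g ^ m * w) = g ^ n * (z * g ^ m) * w := by group
    _ = g ^ n * (g ^ m * z) * w := by rw [hcen z hz]
    _ = (g ^ m * g ^ n) * (z * w) := by rw [← mul_assoc, ← zpow_add, ← zpow_add, add_comm, mul_assoc]
    _ = (g ^ m * g ^ n) * (w * z) := by rw [hcen w hw]
    _ = g ^ m * (g ^ n * w) * z := by group
    _ = g ^ m * (w * g ^ n) * z := by rw [hcen w hw]
    _ = g ^ m * w * (g ^ n * z) := by group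

end

section

variable {Q : Type*} [Group Q] {A N : Subgroup Q}

/-- `A / N` embeds in `Out N` -/
theorem comm_mem {L : Type*} [Group L] (hL : ∀ a b : Cfsg.Out L, a * b = b * a) (e : N ≃* L) (h1 : N ≤ A)
    (h2 : ∀ a ∈ A, ∀ n ∈ N, a * n * a⁻¹ ∈ N) (h3 : ∀ a ∈ A, (∀ n ∈ N, a * n = n * a) → a = 1) :
    ∀ a ∈ A, ∀ b ∈ A, a * b * a⁻¹ * b⁻¹ ∈ N := by
  have hn : ((N.subgroupOf A)).Normal := ⟨by
    rintro ⟨n, hn'⟩ hn ⟨a, ha⟩
    exact h2 a ha n hn⟩
  let g : A →* MulAut (N.subgroupOf A) := MulAut.conjNormal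
  let E : (N.subgroupOf A) ≃* L := (Subgroup.subgroupOfEquivOfLe h1).trans e
  let f : A →* MulAut L := (MulAut.congr E).toMonoidHom.comp g
  let π : MulAut L →* Cfsg.Out L := QuotientGroup.mk' _
  have hker : ∀ a : A, π (f a) = 1 → (a : Q) ∈ N := by
    intro a ha
    have h4 : f a ∈ (MulAut.conj : L →* MulAut L).range := (QuotientGroup.eq_one_iff _).1 ha
    obtain ⟨l, hl⟩ := h4
    have h5 : (a : Q) * (((E.symm l : N.subgroupOf A) : A) : Q)⁻¹ = 1 := by
      apply h3 _ (A.mul_mem a.2 (A.inv_mem (E.symm l : N.subgroupOf A).1.2))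
      have hconj : ∀ y : N.subgroupOf A, (a : Q) * ((y : A) : Q) * (a : Q)⁻¹ =
          (((E.symm l : N.subgroupOf A) : A) : Q) * ((y : A) : Q) * (((E.symm l : N.subgroupOf A) : A) : Q)⁻¹ := by
        intro y
        have h6 := DFunLike.congr_fun hl (E y)
        have h7 : f a (E y) = E (g a y) := by
          show E (g a (E.symm (E y))) = E (g a y)
          rw [MulEquiv.symm_apply_apply]
        rw [h7, MulAut.conj_apply] at h6
        have h8 : E (E.symm l * y * (E.symm l)⁻¹) = E (g a y) := by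
          rw [map_mul, map_mul, map_inv, MulEquiv.apply_symm_apply]
          exact h6
        have h9 := congrArg (fun z : N.subgroupOf A => ((z : A) : Q)) (E.injective h8)
        simp only [g, MulAut.conjNormal_apply] at h9
        exact h9.symm
      intro n hn'
      have hns : (⟨n, h1 hn'⟩ : A) ∈ N.subgroupOf A := hn'
      set s := (E.symm l : N.subgroupOf A) with hs
      have h10 := hconj (s⁻¹ * ⟨⟨n, h1 hn'⟩, hns⟩ * s)
      have h11 : (((s⁻¹ * ⟨⟨n, h1 hn'⟩, hns⟩ * s : N.subgroupOf A) : A) : Q) = ((s : A) : Q)⁻¹ * n * ((s : A) : Q) := rfl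
      rw [h11] at h10
      calc (a : Q) * ((s : A) : Q)⁻¹ * n
          = (a : Q) * (((s : A) : Q)⁻¹ * n * ((s : A) : Q)) * (a : Q)⁻¹ * ((a : Q) * ((s : A) : Q)⁻¹) := by group
        _ = ((s : A) : Q) * (((s : A) : Q)⁻¹ * n * ((s : A) : Q)) * ((s : A) : Q)⁻¹ * ((a : Q) * ((s : A) : Q)⁻¹) := by
            rw [h10]
        _ = n * ((a : Q) * ((s : A) : Q)⁻¹) := by group
    have h6 : (a : Q) = (((E.symm l : N.subgroupOf A) : A) : Q) := mul_inv_eq_one.1 h5
    rw [h6]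
    exact mem_subgroupOf.1 (E.symm l).2
  intro a ha b hb
  have h7 := hker (⟨a, ha⟩ * ⟨b, hb⟩ * ⟨a, ha⟩⁻¹ * ⟨b, hb⟩⁻¹) (by
    rw [map_mul, map_mul, map_mul, map_mul, map_mul, map_mul, map_inv, map_inv, map_inv, map_inv, hL (π (f ⟨a, ha⟩))]
    group)
  exact h7

variable [Finite Q] {Γ : Subgroup (MulAut Q)}

/-- **`soc(A) = PSL₂(K)`: `|Q| ≤ |K|¹⁷`** -/
theorem card_le (hg : Cfsg.Agent.H59.EP.TwoGen.{0}) (hs : IsSimpleGroup Q) (h : EPT A Γ) {K : Type} [Field K]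
    [Fintype K] (h4 : 4 ≤ Fintype.card K) (hS : HasSoc A (Matrix.ProjectiveSpecialLinearGroup (Fin 2) K)) :
    Nat.card Q ≤ Fintype.card K ^ 17 := by
  have hAle := hS.card_le.trans (card_mulAut_le h4)
  obtain ⟨N, h1, h2, h3, ⟨e⟩⟩ := hS
  have hL : IsSimpleGroup (Matrix.ProjectiveSpecialLinearGroup (Fin 2) K) :=
    Matrix.ProjectiveSpecialLinearGroup.rank_two_simple (by rw [Nat.card_eq_fintype_card]; exact h4)
  have hNs : IsSimpleGroup N := e.isSimpleGroup
  have hnc : ¬ ∀ a ∈ N, ∀ b ∈ N, a * b = b * a := by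
    intro hc
    apply psl_not_comm K
    intro a b
    apply e.symm.injective
    rw [map_mul, map_mul]
    exact Subtype.ext (hc _ (e.symm a).2 _ (e.symm b).2)
  have hab := comm_mem (out_comm h4) e h1 h2 h3
  have hr := ncard_le_locK h (N := N) ⟨h1, h2, h3⟩ hNs hnc hab
  have hr2 := hr.trans ((ncard_locK_le e).trans (ncard_locK hg K))
  have hno := Cfsg.Agent.H59.EP.noAb_of_soc h1 h2 hNs hnc h3
  have hub := Cfsg.Agent.H173.EP.ub1 hs h (μ := 6) (by norm_num)
    (fun _ hx => Cfsg.Agent.H59.EP.EPT.six_le h hno hx)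
  set q := Fintype.card K with hq
  set n := Nat.card (Matrix.ProjectiveSpecialLinearGroup (Fin 2) K) with hn
  have hnle : n ≤ q ^ 3 := card_psl_lt
  set r := {M : Subgroup Q | ∃ x, x ∉ A ∧ M = A ⊓ cj x A}.ncard with hrd
  have hr3 : r ≤ 2 * q ^ 9 := by
    calc r ≤ n + n ^ 3 := hr2
      _ ≤ q ^ 3 + (q ^ 3) ^ 3 := Nat.add_le_add hnle (Nat.pow_le_pow_left hnle 3)
      _ = q ^ 3 + q ^ 9 := by ring
      _ ≤ q ^ 9 + q ^ 9 := Nat.add_le_add_right (Nat.pow_le_pow_right (by omega) (by norm_num)) _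
      _ = 2 * q ^ 9 := by ring
  have hdiv : 3 * (2 * (Nat.card A / 6)) ≤ q ^ 4 := by
    have := Nat.mul_div_le (Nat.card A) 6
    omega
  have hidx : A.index ≤ q ^ 13 := by
    have h5 : r * (2 * (Nat.card A / 6)) ≤ 2 * q ^ 9 * (2 * (Nat.card A / 6)) := Nat.mul_le_mul_right _ hr3
    have h6 : 3 * (2 * q ^ 9 * (2 * (Nat.card A / 6))) ≤ 2 * q ^ 13 := by
      calc 3 * (2 * q ^ 9 * (2 * (Nat.card A / 6))) = 2 * q ^ 9 * (3 * (2 * (Nat.card A / 6))) := by ring
        _ ≤ 2 * q ^ 9 * q ^ 4 := Nat.mul_le_mul_left _ hdiv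
        _ = 2 * q ^ 13 := by ring
    have h7 : 4 ≤ q ^ 13 := by
      calc 4 ≤ q := h4
        _ = q ^ 1 := (pow_one q).symm
        _ ≤ q ^ 13 := Nat.pow_le_pow_right (by omega) (by norm_num)
    omega
  rw [← A.card_mul_index]
  calc Nat.card A * A.index ≤ q ^ 4 * q ^ 13 := Nat.mul_le_mul hAle hidx
    _ = q ^ 17 := by ring

end

section rows

variable {Q : Type*} [Group Q] [Finite Q] {A : Subgroup Q} {Γ : Subgroup (MulAut Q)}

/-- **rows `PSp_{2k}(q)`, `k ≥ 3`, `soc(A) = PSL₂(q)`** -/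
theorem own_sp (hg : Cfsg.Agent.H59.EP.TwoGen.{0}) (hs : IsSimpleGroup Q) (h : EPT A Γ) {F : Type} [Field F]
    [Fintype F] (h4 : 4 ≤ Fintype.card F) {k : ℕ} (hk : 3 ≤ k) (m : Model Q (Cfsg.spGL k F))
    (hS : HasSoc A (Matrix.ProjectiveSpecialLinearGroup (Fin 2) F)) : False := by
  have h1 := card_le hg hs h h4 hS
  haveI : Nonempty (Fin k ⊕ Fin k) := ⟨Sum.inl ⟨0, by omega⟩⟩
  have h2 := Cfsg.Agent.H765.EPR.card_model m
  rw [Cfsg.Agent.H955.card_spGL, Nat.card_eq_fintype_card (α := F)] at h2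
  set q := Fintype.card F with hq
  have h3 : q ^ (k ^ 2) ≤ ∏ i ∈ Finset.range k, (q ^ (2 * (i + 1)) - 1) := by
    have h5 : ∏ i ∈ Finset.range k, q ^ (2 * i + 1) = q ^ (k ^ 2) := by
      rw [Finset.prod_pow_eq_pow_sum]
      congr 1
      have hsum : ∀ j : ℕ, ∑ i ∈ Finset.range j, (2 * i + 1) = j ^ 2 := by
        intro j
        induction j with
        | zero => rfl
        | succ j ih => rw [Finset.sum_range_succ, ih]; ring
      exact hsum k
    rw [← h5]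
    apply Finset.prod_le_prod'
    intro i _
    have h6 : q ^ (2 * (i + 1)) = q ^ (2 * i + 1) * q := by ring
    have h7 : 1 ≤ q ^ (2 * i + 1) := Nat.one_le_pow _ _ (by omega)
    rw [h6]
    apply Nat.le_sub_of_add_le
    nlinarith
  have h5 : q ^ 18 ≤ Nat.card Q * (q - 1) := by
    refine le_trans ?_ h2
    refine le_trans ?_ (Nat.mul_le_mul_left _ h3)
    rw [← pow_add]
    apply Nat.pow_le_pow_right (by omega)
    nlinarith
  have h6 : Nat.card Q * (q - 1) ≤ q ^ 17 * (q - 1) := Nat.mul_le_mul_right _ h1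
  have h7 : q ^ 17 * (q - 1) < q ^ 18 := by
    rw [pow_succ q 17]
    exact Nat.mul_lt_mul_of_pos_left (by omega) (Nat.pow_pos (by omega))
  omega

theorem model_equiv {Q₁ Q' : Type*} [Group Q₁] [Group Q'] {ι : Type} [Fintype ι] [DecidableEq ι] {F : Type*} [Field F]
    {S : Subgroup (GL ι F)} (m : Model Q₁ S) (m' : Model Q' S) : Nonempty (Q₁ ≃* Q') := by
  have hker : m.π.ker = m'.π.ker := by
    ext s
    rw [MonoidHom.mem_ker, MonoidHom.mem_ker, m.ker, m'.ker]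
  exact ⟨((QuotientGroup.quotientKerEquivOfSurjective m.π m.surj).symm.trans
    (QuotientGroup.quotientMulEquivOfEq hker)).trans (QuotientGroup.quotientKerEquivOfSurjective m'.π m'.surj)⟩

omit [Finite Q] in
/-- `|Ω₉(q)| > q³⁴`, `q ≥ 3` odd -/
theorem card_nine {F : Type} [Field F] [Fintype F] (hodd : Odd (Fintype.card F))
    (m : Model Q (Cfsg.Geo.omegaGL (Cfsg.quadFormOdd 4 F))) : Fintype.card F ^ 34 < Nat.card Q := by
  obtain ⟨m'⟩ := Cfsg.Agent.H775.EP.model_odd 4 (by norm_num) F (Cfsg.Agent.H775.EP.two_ne_zero_of_odd hodd)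
  obtain ⟨e⟩ := model_equiv m m'
  have h1 := Cfsg.Agent.S0292.result (F := F) rfl hodd 4 (by norm_num)
  rw [← Nat.card_congr e.toEquiv] at h1
  simp only [Finset.prod_range_succ, Finset.prod_range_zero, one_mul] at h1
  norm_num at h1
  have hq3 : 3 ≤ Fintype.card F := by
    have := Fintype.one_lt_card (α := F)
    obtain ⟨k, hk⟩ := hodd
    omega
  set q := Fintype.card F with hq
  have key : ∀ k : ℕ, 2 ≤ k → 8 * q ^ k ≤ 9 * (q ^ k - 1) := by
    intro k hk
    have : 9 ≤ q ^ k := by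
      calc 9 = 3 ^ 2 := by norm_num
        _ ≤ q ^ 2 := Nat.pow_le_pow_left hq3 2
        _ ≤ q ^ k := Nat.pow_le_pow_right (by omega) hk
    omega
  have h5 : (8 * q ^ 2) * (8 * q ^ 4) * (8 * q ^ 6) * (8 * q ^ 8) ≤
      (9 * (q ^ 2 - 1)) * (9 * (q ^ 4 - 1)) * (9 * (q ^ 6 - 1)) * (9 * (q ^ 8 - 1)) :=
    Nat.mul_le_mul (Nat.mul_le_mul (Nat.mul_le_mul (key 2 le_rfl) (key 4 (by norm_num))) (key 6 (by norm_num)))
      (key 8 (by norm_num))
  have h6 : 4096 * q ^ 36 ≤ 6561 * (2 * Nat.card Q) := by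
    rw [h1]
    calc 4096 * q ^ 36 = q ^ 16 * ((8 * q ^ 2) * (8 * q ^ 4) * (8 * q ^ 6) * (8 * q ^ 8)) := by ring
      _ ≤ q ^ 16 * ((9 * (q ^ 2 - 1)) * (9 * (q ^ 4 - 1)) * (9 * (q ^ 6 - 1)) * (9 * (q ^ 8 - 1))) :=
        Nat.mul_le_mul_left _ h5
      _ = 6561 * (q ^ 16 * ((q ^ 2 - 1) * (q ^ 4 - 1) * (q ^ 6 - 1) * (q ^ 8 - 1))) := by ring
  have h7 : 9 * q ^ 34 ≤ q ^ 36 := by
    calc 9 * q ^ 34 = 3 ^ 2 * q ^ 34 := by norm_num
      _ ≤ q ^ 2 * q ^ 34 := Nat.mul_le_mul_right _ (Nat.pow_le_pow_left hq3 2)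
      _ = q ^ 36 := by ring
  have h8 : 0 < q ^ 34 := Nat.pow_pos (by omega)
  omega

/-- **row `Ω₉(q)`, `soc(A) = PSL₂(q)`** -/
theorem own_nine (hg : Cfsg.Agent.H59.EP.TwoGen.{0}) (hs : IsSimpleGroup Q) (h : EPT A Γ) {F : Type} [Field F]
    [Fintype F] (hodd : Odd (Fintype.card F)) (h4 : 4 ≤ Fintype.card F)
    (m : Model Q (Cfsg.Geo.omegaGL (Cfsg.quadFormOdd 4 F)))
    (hS : HasSoc A (Matrix.ProjectiveSpecialLinearGroup (Fin 2) F)) : False := by
  have h1 := card_le hg hs h h4 hS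
  have h2 := card_nine hodd m
  have h3 : Fintype.card F ^ 17 ≤ Fintype.card F ^ 34 := Nat.pow_le_pow_right (by omega) (by norm_num)
  omega

/-- **row `Ω₉(q)`, `soc(A) = PSL₂(q²)`** -/
theorem own_nine_sq (hg : Cfsg.Agent.H59.EP.TwoGen.{0}) (hs : IsSimpleGroup Q) (h : EPT A Γ) {F : Type} [Field F]
    [Fintype F] (hodd : Odd (Fintype.card F)) (m : Model Q (Cfsg.Geo.omegaGL (Cfsg.quadFormOdd 4 F))) {K : Type}
    [Field K] [Fintype K] (hK : Fintype.card K = Fintype.card F ^ 2)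
    (hS : HasSoc A (Matrix.ProjectiveSpecialLinearGroup (Fin 2) K)) : False := by
  have h4 : 4 ≤ Fintype.card K := by
    have := Fintype.one_lt_card (α := F)
    rw [hK]
    nlinarith
  have h1 := card_le hg hs h h4 hS
  have h2 := card_nine hodd m
  rw [hK, ← pow_mul, show 2 * 17 = 34 by norm_num] at h1
  omega

end rows

end Cfsg.Agent.H36.EPL
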