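import Cfsg.Agent.H765.EPR.Cnt
import Cfsg.Agent.H59.EP.UB
import Cfsg.Agent.S0307
import Cfsg.Agent.LieClassical.SmallIso

/-!
# S3499: groups generated by three elements (helper36)

`Gen3 H`, its stability, and `Gen3` for cyclic, dihedral groups, `A₄`, `S₄`, `A₅`, `PSL₂(L)` and the derived
group of `PGL₂(L)`; `ncard_gen3` : at most `|L|³` subgroups of `L` satisfy `Gen3`.
-/

set_option autoImplicit false

namespace Cfsg.Agent.H36.EPL

open Subgroup ArithmeticFunction Cfsg.Agent.H765.EPR Cfsg.Agent.H59.EP

/-- generated by three elements -/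
def Gen3 (H : Type*) [Group H] : Prop := ∃ f : Fin 3 → H, closure (Set.range f) = ⊤

theorem Gen3.of_surj {H H' : Type*} [Group H] [Group H'] (h : Gen3 H) (φ : H →* H')
    (hφ : Function.Surjective φ) : Gen3 H' := by
  obtain ⟨f, hf⟩ := h
  refine ⟨fun i => φ (f i), ?_⟩
  have h1 := congrArg (Subgroup.map φ) hf
  rw [MonoidHom.map_closure, ← MonoidHom.range_eq_map, MonoidHom.range_eq_top.2 hφ, ← Set.range_comp] at h1
  exact h1

theorem Gen3.congr {H H' : Type*} [Group H] [Group H'] (h : Gen3 H) (e : H ≃* H') : Gen3 H' :=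
  h.of_surj e.toMonoidHom e.surjective

theorem gen3_of_omega {H : Type*} [Group H] [Finite H] (h : cardFactors (Nat.card H) ≤ 3) : Gen3 H := exists_gen' h

theorem gen3_of_two {H : Type*} [Group H] {a b : H} (h : closure ({a, b} : Set H) = ⊤) : Gen3 H := by
  refine ⟨![a, b, 1], ?_⟩
  rw [eq_top_iff, ← h]
  apply Subgroup.closure_mono
  rintro x (rfl | rfl)
  · exact ⟨0, rfl⟩
  · exact ⟨1, rfl⟩

theorem gen3_cyclic {H : Type*} [Group H] (h : IsCyclic H) : Gen3 H := by
  obtain ⟨g, hg⟩ := h.exists_generator
  apply gen3_of_two (a := g) (b := g)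
  rw [Set.pair_eq_singleton, ← zpowers_eq_closure]
  exact (Subgroup.eq_top_iff' _).2 hg

theorem gen3_dihedral (k : ℕ) : Gen3 (DihedralGroup k) := by
  apply gen3_of_two (a := DihedralGroup.r 1) (b := DihedralGroup.sr 0)
  rw [Subgroup.eq_top_iff']
  have hr : ∀ i : ZMod k, DihedralGroup.r i ∈ closure ({DihedralGroup.r 1, DihedralGroup.sr 0} : Set (DihedralGroup k)) := by
    intro i
    obtain ⟨z, rfl⟩ := ZMod.intCast_surjective i
    have h1 : (DihedralGroup.r (z : ZMod k)) = (DihedralGroup.r 1) ^ z := by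
      rw [DihedralGroup.r_one_zpow]
    rw [h1]
    exact zpow_mem (subset_closure (by simp)) z
  rintro (i | i)
  · exact hr i
  · have h1 : (DihedralGroup.sr i : DihedralGroup k) = DihedralGroup.sr 0 * DihedralGroup.r i := by
      rw [DihedralGroup.sr_mul_r, zero_add]
    rw [h1]
    exact mul_mem (subset_closure (by simp)) (hr i)

theorem gen3_simple (hg : TwoGen.{0}) {H : Type} [Group H] [Finite H] (h : IsSimpleGroup H) : Gen3 H := by
  obtain ⟨x, y, hxy⟩ := hg H
  exact gen3_of_two hxy

theorem omega_le_three {n : ℕ} (h0 : n ≠ 0) (h : n ≤ 12) : cardFactors n ≤ 3 := by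
  by_contra hcon
  push Not at hcon
  have h1 : 2 ^ cardFactors n ≤ n := by
    rw [ArithmeticFunction.cardFactors_apply]
    conv_rhs => rw [← Nat.prod_primeFactorsList h0]
    apply List.pow_card_le_prod
    intro p hp
    exact (Nat.prime_of_mem_primeFactorsList hp).two_le
  have h2 : 2 ^ 4 ≤ 2 ^ cardFactors n := Nat.pow_le_pow_right (by norm_num) hcon
  omega

theorem gen3_of_card {H : Type*} [Group H] [Finite H] (h : Nat.card H ≤ 12) : Gen3 H :=
  gen3_of_omega (omega_le_three Nat.card_pos.ne' h)

theorem gen3_a4 : Gen3 (alternatingGroup (Fin 4)) := by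
  apply gen3_of_card
  have : Nontrivial (Fin 4) := Fin.nontrivial_iff_two_le.2 (by norm_num)
  have h1 := two_mul_nat_card_alternatingGroup (α := Fin 4)
  rw [Nat.card_eq_fintype_card (α := Equiv.Perm (Fin 4)), Fintype.card_perm, Fintype.card_fin] at h1
  have : Nat.factorial 4 = 24 := rfl
  omega

theorem gen3_s4 : Gen3 (Equiv.Perm (Fin 4)) := by
  refine ⟨fun i : Fin 3 => Equiv.swap i.castSucc i.succ, ?_⟩
  have h1 := Equiv.Perm.mclosure_swap_castSucc_succ 3
  rw [Subgroup.eq_top_iff']
  intro g
  have h2 : g ∈ Submonoid.closure (Set.range fun i : Fin 3 => Equiv.swap i.castSucc i.succ) := by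
    rw [h1]
    exact Submonoid.mem_top _
  have h3 : Submonoid.closure (Set.range fun i : Fin 3 => Equiv.swap i.castSucc i.succ) ≤
      (closure (Set.range fun i : Fin 3 => Equiv.swap i.castSucc i.succ)).toSubmonoid :=
    Submonoid.closure_le.2 subset_closure
  exact h3 h2

theorem gen3_a5 (hg : TwoGen.{0}) : Gen3 (alternatingGroup (Fin 5)) :=
  gen3_simple hg inferInstance

theorem card_psl_le {L : Type*} [Field L] [Fintype L] (h : Fintype.card L ≤ 3) :
    Nat.card (Matrix.ProjectiveSpecialLinearGroup (Fin 2) L) ≤ 12 := by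
  by_cases h2 : (2 : L) = 0
  · have h4 : Fintype.card L ≤ 2 := by
      by_contra hcon
      have h5 : Fintype.card L = 3 := by omega
      have h6 : ((3 : ℕ) : L) = 0 := by
        rw [← h5]
        exact FiniteField.cast_card_eq_zero L
      have h7 : (1 : L) = ((3 : ℕ) : L) - 2 := by push_cast; ring
      rw [h6, h2, sub_zero] at h7
      exact one_ne_zero h7
    have h5 : Nat.card (Matrix.ProjectiveSpecialLinearGroup (Fin 2) L) ≤ Nat.card (Matrix.SpecialLinearGroup (Fin 2) L) :=
      Nat.card_le_card_of_surjective _ (QuotientGroup.mk_surjective)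
    rw [Cfsg.Agent.LieClassical.SmallIso.card_sl_two] at h5
    have h6 : Fintype.card L = 2 := by
      have := Fintype.one_lt_card (α := L)
      omega
    rw [h6] at h5
    omega
  · have h1 := Cfsg.Agent.LieClassical.SmallIso.card_psl_two L h2
    have h6 : Fintype.card L = 2 ∨ Fintype.card L = 3 := by
      have := Fintype.one_lt_card (α := L)
      omega
    rcases h6 with h6 | h6 <;> rw [h6] at h1 <;> omega

theorem gen3_psl (hg : TwoGen.{0}) (L : Type) [Field L] [Fintype L] : Gen3 (Matrix.ProjectiveSpecialLinearGroup (Fin 2) L) := by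
  by_cases h : Fintype.card L ≤ 3
  · exact gen3_of_card (card_psl_le h)
  · exact gen3_simple hg (Matrix.ProjectiveSpecialLinearGroup.rank_two_simple (by
      rw [Nat.card_eq_fintype_card]; omega))

/-- the derived group of `PGL₂(L)` -/
theorem gen3_comm_pgl (hg : TwoGen.{0}) (L : Type) [Field L] [Fintype L] :
    Gen3 (commutator (Matrix.ProjGenLinGroup (Fin 2) L)) := by
  haveI : Finite (Matrix.ProjGenLinGroup (Fin 2) L) := by
    unfold Matrix.ProjGenLinGroup
    infer_instance
  obtain ⟨g, -, hgk⟩ := S0307.result (F := L) rfl 2 (by norm_num)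
  set ι := (Matrix.ProjectiveSpecialLinearGroup.toPGL :
    Matrix.ProjectiveSpecialLinearGroup (Fin 2) L →* Matrix.ProjGenLinGroup (Fin 2) L) with hι
  have hinj : Function.Injective ι := Matrix.ProjectiveSpecialLinearGroup.toPGL_injective
  have hle : commutator (Matrix.ProjGenLinGroup (Fin 2) L) ≤ ι.range := by
    rw [← hgk]
    exact Abelianization.commutator_subset_ker g
  have hcard : Nat.card ι.range = Nat.card (Matrix.ProjectiveSpecialLinearGroup (Fin 2) L) :=
    Nat.card_congr (MonoidHom.ofInjective hinj).symm.toEquiv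
  by_cases h : Fintype.card L ≤ 3
  · apply gen3_of_card
    exact (Nat.card_le_card_of_injective _ (Subgroup.inclusion_injective hle)).trans (hcard.le.trans (card_psl_le h))
  · have hs : IsSimpleGroup (Matrix.ProjectiveSpecialLinearGroup (Fin 2) L) :=
      Matrix.ProjectiveSpecialLinearGroup.rank_two_simple (by rw [Nat.card_eq_fintype_card]; omega)
    have hn : ((commutator (Matrix.ProjGenLinGroup (Fin 2) L)).comap ι).Normal := inferInstance
    rcases hn.eq_bot_or_eq_top with h1 | h1
    · apply gen3_of_card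
      have h2 : commutator (Matrix.ProjGenLinGroup (Fin 2) L) = ⊥ := by
        rw [eq_bot_iff]
        intro x hx
        obtain ⟨y, rfl⟩ := hle hx
        have h3 : y ∈ (commutator (Matrix.ProjGenLinGroup (Fin 2) L)).comap ι := hx
        rw [h1, mem_bot] at h3
        rw [h3, map_one, mem_bot]
      rw [h2, Subgroup.card_bot]
      norm_num
    · have h2 : commutator (Matrix.ProjGenLinGroup (Fin 2) L) = ι.range := by
        apply le_antisymm hle
        rintro _ ⟨y, rfl⟩
        have h3 : y ∈ (commutator (Matrix.ProjGenLinGroup (Fin 2) L)).comap ι := by rw [h1]; exact mem_top _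
        exact h3
      rw [h2]
      exact (gen3_psl hg L).congr (MonoidHom.ofInjective hinj)

/-- there are at most `|L|³` subgroups generated by three elements -/
theorem ncard_gen3 {L : Type*} [Group L] [Finite L] {S : Set (Subgroup L)} (hS : ∀ M ∈ S, Gen3 M) :
    S.ncard ≤ Nat.card L ^ 3 := by
  classical
  let φ : (Fin 3 → L) → Subgroup L := fun f => closure (Set.range f)
  have hsub : S ⊆ Set.range φ := by
    intro M hM
    obtain ⟨f, hf⟩ := hS M hM
    refine ⟨fun i => f i, ?_⟩
    have h1 := congrArg (Subgroup.map M.subtype) hf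
    rw [MonoidHom.map_closure, ← MonoidHom.range_eq_map, Subgroup.range_subtype, ← Set.range_comp] at h1
    exact h1
  calc S.ncard ≤ (Set.range φ).ncard := Set.ncard_le_ncard hsub (Set.toFinite _)
    _ ≤ Nat.card (Fin 3 → L) := by
        rw [← Set.image_univ]
        refine (Set.ncard_image_le (Set.toFinite _)).trans ?_
        rw [Set.ncard_univ]
    _ = Nat.card L ^ 3 := by
        rw [Nat.card_fun, Nat.card_eq_fintype_card (α := Fin 3), Fintype.card_fin]

end Cfsg.Agent.H36.EPL
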