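import Cfsg.Agent.H36.EPL.Gen
import Cfsg.Agent.H273.EPU.Soc
import Cfsg.Agent.S0799

/-!
# S3499: the local subgroups of `PSL₂(F)` (helper36)

`ncard_locK` : `LocK (PSL₂(F))` has at most `n + n³` elements, `n = |PSL₂(F)|`.
-/

set_option autoImplicit false

namespace Cfsg.Agent.H36.EPL

open Matrix MulAction OnePoint
open Cfsg.Agent.ClassicalGeometry.PoleCount Cfsg.Agent.ClassicalGeometry.PoleCount.Pole
open Cfsg.Agent.ClassicalGeometry.PoleBridge
open Cfsg.Agent.ClassicalGeometry.PoleCases Cfsg.Agent.ClassicalGeometry.DicksonWild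
open Cfsg.Agent.ClassicalGeometry.PSL2Basic Cfsg.Agent.ClassicalGeometry.PSL2ElemOrder
open Cfsg.Agent.Lib.Mobius Cfsg.Agent.S0799

/-- Dickson's theorem with the Borel case in another form (proof as in S0799). -/
theorem dick {F : Type*} [Field F] [Fintype F] (p : ℕ) [Fact p.Prime] [CharP F p]
    (H : Subgroup (Matrix.ProjectiveSpecialLinearGroup (Fin 2) F)) :
    (p ∣ Nat.card H ∧ ∃ P : Sylow p H, (P : Subgroup H).Normal) ∨ IsCyclic H ∨
      (∃ k : ℕ, Nonempty (H ≃* DihedralGroup k)) ∨ Nonempty (H ≃* alternatingGroup (Fin 4)) ∨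
      Nonempty (H ≃* Equiv.Perm (Fin 4)) ∨ Nonempty (H ≃* alternatingGroup (Fin 5)) ∨
      (∃ (K : Type) (_ : Field K) (_ : Fintype K), (Nonempty (H ≃* Matrix.ProjectiveSpecialLinearGroup (Fin 2) K) ∨
        Nonempty (H ≃* Matrix.ProjGenLinGroup (Fin 2) K))) := by
  classical
  let K := AlgebraicClosure F
  haveI : CharP K p := charP_of_injective_algebraMap (algebraMap F K).injective p
  let ι : F →+* K := algebraMap F K
  let φ : H →* Matrix.ProjectiveSpecialLinearGroup (Fin 2) K := (pslMap ι).comp H.subtype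
  have hφ : Function.Injective φ := (pslMap_injective ι).comp H.subtype_injective
  letI := act φ
  have pole : Pole p K H (OnePoint K) := pole_of_injective p φ hφ
  have hact : ∀ (g : H) (x : OnePoint K), g • x = pslPerm K (pslMap ι (g : _)) x := fun _ _ => rfl
  by_cases hp : p ∣ Nat.card H
  · -- the wild case
    obtain ⟨u, hu⟩ := exists_prime_orderOf_dvd_card' p hp
    have hup : u ^ p = 1 := by rw [← hu]; exact pow_orderOf_eq_one u
    have hu1 : u ≠ 1 := by
      rintro rfl
      rw [orderOf_one] at hu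
      exact (Fact.out : p.Prime).one_lt.ne hu
    obtain ⟨x₀, hx₀⟩ := pole.one u hu1 hup
    have hx₀' : x₀ ∈ Op p H (OnePoint K) := ⟨u, hu1, hup, (hx₀ x₀).mpr rfl⟩
    by_cases hone : ∀ x ∈ Op p H (OnePoint K), x = x₀
    · -- the Sylow subgroup is normal
      left
      obtain ⟨P, hP⟩ := pole.exists_sylow hx₀'
      have hnorm : (P : Subgroup H).Normal := by
        rw [hP]
        refine ⟨fun n hn g => ?_⟩
        have hg : g • x₀ = x₀ := hone _ (smul_mem_Op g hx₀')
        refine ⟨?_, ?_⟩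
        · rw [mul_smul, mul_smul, inv_smul_eq_iff.mpr hg.symm, hn.1, hg]
        · rw [conj_pow, hn.2, mul_one, mul_inv_cancel]
      exact ⟨hp, P, hnorm⟩
    · push Not at hone
      obtain ⟨x₁, hx₁, hne⟩ := hone
      rcases wild_cases pole hx₀' hx₁ (Ne.symm hne) with htr | ⟨k, hk0, hk, hd⟩ | hA5
      · -- transfer to the projective line over `F`
        right; right; right; right; right; right
        have hrat : ∀ x ∈ Op p H (OnePoint K), ∃ x' ∈ OpF p H, OnePoint.map ι x' = x := by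
          rintro x ⟨v, hv1, hvp, hvx⟩
          have hvp' : (v : Matrix.ProjectiveSpecialLinearGroup (Fin 2) F) ^ p = 1 :=
            congrArg Subtype.val hvp
          obtain ⟨x', hx'⟩ := exists_fix_rational p _ hvp'
          refine ⟨x', ⟨v, v.2, fun h => hv1 (Subtype.ext h), hvp', hx'⟩, ?_⟩
          obtain ⟨y, hy⟩ := pole.one v hv1 hvp
          rw [(hy x).mp hvx]
          apply (hy _).mp
          rw [hact, pslPerm_map, hx']
        have hOp : ∀ x ∈ OpF p H, OnePoint.map ι x ∈ Op p H (OnePoint K) := by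
          rintro x ⟨v, hvH, hv1, hvp, hvx⟩
          refine ⟨⟨v, hvH⟩, fun h => hv1 (congrArg Subtype.val h), Subtype.ext hvp, ?_⟩
          rw [hact, pslPerm_map, hvx]
        have hTr : Trans p H := by
          intro x hx y hy z hz hyx hzx
          obtain ⟨g, hgp, hgx, hgy⟩ := htr _ (hOp x hx) _ (hOp y hy) _ (hOp z hz)
            (fun h => hyx (map_injective ι h)) (fun h => hzx (map_injective ι h))
          refine ⟨g, g.2, congrArg Subtype.val hgp, ?_, ?_⟩
          · apply map_injective ι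
            rw [← pslPerm_map, ← hact, hgx]
          · apply map_injective ι
            rw [← pslPerm_map, ← hact, hgy]
        obtain ⟨a, ha, hax⟩ := hrat x₀ hx₀'
        obtain ⟨b, hb, hbx⟩ := hrat x₁ hx₁
        have hab : a ≠ b := by
          rintro rfl
          exact hne (hbx.symm.trans hax)
        obtain ⟨L, i1, i2, m, hm, h3⟩ := main_trans p H ha hb hab hTr
        exact ⟨L, i1, i2, h3⟩
      · right; right; left
        exact ⟨k, hd⟩
      · right; right; right; right; right; left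
        exact hA5
  · -- the tame case
    have hpow : ∀ g : H, g ≠ 1 → g ^ p ≠ 1 := by
      intro g hg hgp
      apply hp
      rw [← orderOf_eq_prime hgp hg]
      exact orderOf_dvd_natCard g
    have hcyc : ∀ x : OnePoint K, IsCyclic (stabilizer H x) := by
      intro x
      obtain ⟨χ, hχ⟩ := pole.chi x
      have hinj : Function.Injective χ := by
        rw [injective_iff_map_eq_one]
        intro g hg
        by_contra hne
        have h1 := (hχ g).mp hg
        exact hpow g (fun h => hne (Subtype.ext h)) (congrArg Subtype.val h1)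
      have hcoe : Function.Injective (Units.coeHom K) := Units.val_injective
      exact isCyclic_of_injective_ringHom ((Units.coeHom K).comp χ) (hcoe.comp hinj)
    rcases Cfsg.Agent.ClassicalGeometry.PolePrime.pole_prime
      (fun (g : H) hg => pole.two g (hpow g hg)) hcyc with h1 | ⟨k, hk, h1⟩ | h1 | h1 | h1
    · exact Or.inr (Or.inl h1)
    · exact Or.inr (Or.inr (Or.inl ⟨k, h1⟩))
    · exact Or.inr (Or.inr (Or.inr (Or.inl h1)))
    · exact Or.inr (Or.inr (Or.inr (Or.inr (Or.inl h1))))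
    · exact Or.inr (Or.inr (Or.inr (Or.inr (Or.inr (Or.inl h1)))))

section

open Subgroup Cfsg.Agent.H273.EPU
open scoped commutatorElement

/-- Sylow `p`-subgroups of `PSL₂(F)` are commutative -/
theorem sylow_comm {F : Type*} [Field F] [Fintype F] (p : ℕ) [Fact p.Prime] [CharP F p]
    (P : Sylow p (Matrix.ProjectiveSpecialLinearGroup (Fin 2) F)) {a b : Matrix.ProjectiveSpecialLinearGroup (Fin 2) F}
    (ha : a ∈ (P : Subgroup (Matrix.ProjectiveSpecialLinearGroup (Fin 2) F)))
    (hb : b ∈ (P : Subgroup (Matrix.ProjectiveSpecialLinearGroup (Fin 2) F))) : a * b = b * a := by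
  set π := QuotientGroup.mk' (Subgroup.center (Matrix.SpecialLinearGroup (Fin 2) F)) with hπ
  have hsurj : Function.Surjective π := QuotientGroup.mk'_surjective _
  set P₀ := (Cfsg.Agent.LieClassical.SLTwoUnipotent.upperUnipSylowSL F p).mapSurjective hsurj with hP₀
  obtain ⟨g, hg⟩ := MulAction.exists_smul_eq (Matrix.ProjectiveSpecialLinearGroup (Fin 2) F) P₀ P
  have hmem : ∀ y, y ∈ (P : Subgroup (Matrix.ProjectiveSpecialLinearGroup (Fin 2) F)) →
      ∃ v, g⁻¹ * y * g = π (Cfsg.Agent.LieClassical.SLTwoUnipotent.u v) := by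
    intro y hy
    rw [← hg, Sylow.coe_subgroup_smul, hP₀, Sylow.coe_mapSurjective,
      Subgroup.mem_pointwise_smul_iff_inv_smul_mem] at hy
    have : (MulAut.conj g)⁻¹ • y = g⁻¹ * y * g := by
      rw [← map_inv, MulAut.smul_def, MulAut.conj_apply, inv_inv]
    rw [this] at hy
    obtain ⟨z, hz, hz2⟩ := hy
    obtain ⟨v, rfl⟩ := Cfsg.Agent.LieClassical.SLTwoUnipotent.mem_upperUnipSL_iff_exists.1 hz
    exact ⟨v, hz2.symm⟩
  obtain ⟨v, hv⟩ := hmem a ha
  obtain ⟨w, hw⟩ := hmem b hb
  have h1 : (g⁻¹ * a * g) * (g⁻¹ * b * g) = (g⁻¹ * b * g) * (g⁻¹ * a * g) := by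
    rw [hv, hw, ← map_mul, ← map_mul, ← Cfsg.Agent.LieClassical.SLTwoUnipotent.u_add,
      ← Cfsg.Agent.LieClassical.SLTwoUnipotent.u_add, add_comm]
  have h2 : g⁻¹ * (a * b) * g = g⁻¹ * (b * a) * g := by
    calc g⁻¹ * (a * b) * g = (g⁻¹ * a * g) * (g⁻¹ * b * g) := by group
      _ = (g⁻¹ * b * g) * (g⁻¹ * a * g) := h1
      _ = _ := by group
  exact mul_left_cancel (mul_right_cancel h2)

theorem psl_not_comm (L : Type*) [Field L] : ¬ ∀ a b : Matrix.ProjectiveSpecialLinearGroup (Fin 2) L, a * b = b * a := by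
  intro h
  set π := QuotientGroup.mk' (Subgroup.center (Matrix.SpecialLinearGroup (Fin 2) L)) with hπ
  have h1 := h (π (Cfsg.Agent.LieClassical.SLTwoUnipotent.u 1)) (π (Cfsg.Agent.LieClassical.SLTwoUnipotent.l 1))
  rw [← map_mul, ← map_mul] at h1
  have h2 := QuotientGroup.eq.1 h1.symm
  have e1 : ((Cfsg.Agent.LieClassical.SLTwoUnipotent.u (1 : L) * Cfsg.Agent.LieClassical.SLTwoUnipotent.l 1 :
      Matrix.SpecialLinearGroup (Fin 2) L) : Matrix (Fin 2) (Fin 2) L) 0 0 = 1 + 1 := by
    rw [Matrix.SpecialLinearGroup.coe_mul, Matrix.mul_apply, Fin.sum_univ_two]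
    simp [Cfsg.Agent.LieClassical.SLTwoUnipotent.u, Cfsg.Agent.LieClassical.SLTwoUnipotent.l]
  have e2 : ((Cfsg.Agent.LieClassical.SLTwoUnipotent.u (1 : L) * Cfsg.Agent.LieClassical.SLTwoUnipotent.l 1 :
      Matrix.SpecialLinearGroup (Fin 2) L) : Matrix (Fin 2) (Fin 2) L) 0 1 = 1 := by
    rw [Matrix.SpecialLinearGroup.coe_mul, Matrix.mul_apply, Fin.sum_univ_two]
    simp [Cfsg.Agent.LieClassical.SLTwoUnipotent.u, Cfsg.Agent.LieClassical.SLTwoUnipotent.l]
  have e3 : ((Cfsg.Agent.LieClassical.SLTwoUnipotent.l (1 : L) * Cfsg.Agent.LieClassical.SLTwoUnipotent.u 1 :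
      Matrix.SpecialLinearGroup (Fin 2) L) : Matrix (Fin 2) (Fin 2) L) 0 0 = 1 := by
    rw [Matrix.SpecialLinearGroup.coe_mul, Matrix.mul_apply, Fin.sum_univ_two]
    simp [Cfsg.Agent.LieClassical.SLTwoUnipotent.u, Cfsg.Agent.LieClassical.SLTwoUnipotent.l]
  have e4 : ((Cfsg.Agent.LieClassical.SLTwoUnipotent.l (1 : L) * Cfsg.Agent.LieClassical.SLTwoUnipotent.u 1 :
      Matrix.SpecialLinearGroup (Fin 2) L) : Matrix (Fin 2) (Fin 2) L) 0 1 = 1 := by
    rw [Matrix.SpecialLinearGroup.coe_mul, Matrix.mul_apply, Fin.sum_univ_two]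
    simp [Cfsg.Agent.LieClassical.SLTwoUnipotent.u, Cfsg.Agent.LieClassical.SLTwoUnipotent.l]
  rcases mem_center_SL2_iff.mp h2 with h3 | h3
  · rw [inv_mul_eq_one] at h3
    rw [← h3, e3] at e1
    have : (0 : L) = 1 := by linear_combination e1
    exact zero_ne_one this
  · rw [inv_mul_eq_iff_eq_mul] at h3
    have h4 : (Cfsg.Agent.LieClassical.SLTwoUnipotent.l (1 : L) * Cfsg.Agent.LieClassical.SLTwoUnipotent.u 1) * -1 =
        -(Cfsg.Agent.LieClassical.SLTwoUnipotent.l (1 : L) * Cfsg.Agent.LieClassical.SLTwoUnipotent.u 1) := by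
      rw [mul_neg, mul_one]
    rw [h3, h4, Matrix.SpecialLinearGroup.coe_neg, Matrix.neg_apply] at e1 e2
    rw [e3] at e1
    rw [e4] at e2
    have : (0 : L) = 1 := by linear_combination e1 - e2
    exact zero_ne_one this

/-- a member of `LocK` is the normaliser of each of its characteristic subgroups -/
theorem locK_eq {L : Type*} [Group L] {H : Subgroup L} (hH : H ∈ LocK L) {Y : Subgroup H} (hY : Y.Characteristic)
    (hY0 : Y ≠ ⊥) : normalizer ((Y.map H.subtype : Subgroup L) : Set L) = H := by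
  apply le_antisymm (hH.2 Y hY hY0)
  intro h hh
  rw [mem_normalizer_iff]
  have hn : Y.Normal := inferInstance
  intro x
  constructor
  · rintro ⟨y, hy, rfl⟩
    exact ⟨⟨h, hh⟩ * y * ⟨h, hh⟩⁻¹, hn.conj_mem y hy ⟨h, hh⟩, rfl⟩
  · rintro ⟨y, hy, hy'⟩
    refine ⟨⟨h, hh⟩⁻¹ * y * ⟨h, hh⟩, ?_, ?_⟩
    · have h5 := hn.conj_mem y hy (⟨h, hh⟩ : H)⁻¹
      rw [inv_inv] at h5
      exact h5
    · have hy' : (y : L) = h * x * h⁻¹ := hy'
      change h⁻¹ * (y : L) * h = x
      rw [hy']
      group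

theorem gen3_top {H : Type*} [Group H] (h : Gen3 H) : Gen3 (⊤ : Subgroup H) := h.congr Subgroup.topEquiv.symm

/-- **the classification** -/
theorem locK_cases (hg : Cfsg.Agent.H59.EP.TwoGen.{0}) {F : Type*} [Field F] [Fintype F] (p : ℕ) [Fact p.Prime]
    [CharP F p] {H : Subgroup (Matrix.ProjectiveSpecialLinearGroup (Fin 2) F)}
    (hH : H ∈ LocK (Matrix.ProjectiveSpecialLinearGroup (Fin 2) F)) :
    (∃ P : Sylow p (Matrix.ProjectiveSpecialLinearGroup (Fin 2) F),
      H = normalizer ((P : Subgroup (Matrix.ProjectiveSpecialLinearGroup (Fin 2) F)) : Set _)) ∨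
    ∃ M : Subgroup (Matrix.ProjectiveSpecialLinearGroup (Fin 2) F), Gen3 M ∧ H = normalizer (M : Set _) := by
  have hne : (⊤ : Subgroup H) ≠ ⊥ := by
    intro e
    apply hH.1
    rw [Subgroup.eq_bot_iff_forall]
    intro x hx
    have h1 : (⟨x, hx⟩ : H) ∈ (⊤ : Subgroup H) := mem_top _
    rw [e, mem_bot] at h1
    exact congrArg Subtype.val h1
  have key : ∀ Y : Subgroup H, Y.Characteristic → Y ≠ ⊥ → Gen3 Y →
      ∃ M : Subgroup (Matrix.ProjectiveSpecialLinearGroup (Fin 2) F), Gen3 M ∧ H = normalizer (M : Set _) := by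
    intro Y hY hY0 hG
    exact ⟨Y.map H.subtype, hG.congr (Y.equivMapOfInjective _ H.subtype_injective), (locK_eq hH hY hY0).symm⟩
  have keyT : Gen3 H → ∃ M : Subgroup (Matrix.ProjectiveSpecialLinearGroup (Fin 2) F), Gen3 M ∧
      H = normalizer (M : Set _) := fun hG => key ⊤ inferInstance hne (gen3_top hG)
  rcases dick p H with ⟨hp, Q, hQ⟩ | h1 | ⟨k, ⟨e⟩⟩ | ⟨⟨e⟩⟩ | ⟨⟨e⟩⟩ | ⟨⟨e⟩⟩ | ⟨L, _, _, ⟨⟨e⟩⟩ | ⟨⟨e⟩⟩⟩
  · left
    have hc : (Q : Subgroup H).Characteristic := Sylow.characteristic_of_normal Q hQ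
    have hQ0 : (Q : Subgroup H) ≠ ⊥ := Q.ne_bot_of_dvd_card hp
    have hN := locK_eq hH hc hQ0
    have hQ1 : ((Q : Subgroup H).map H.subtype) ≠ ⊥ := by
      intro h
      rw [Subgroup.map_eq_bot_iff_of_injective _ H.subtype_injective] at h
      exact hQ0 h
    obtain ⟨P, hQP, hHP⟩ := le_normalizer_of_normal p H _ (Q.2.map H.subtype) hQ1 hN.ge
    refine ⟨P, ?_⟩
    have hPH : (P : Subgroup (Matrix.ProjectiveSpecialLinearGroup (Fin 2) F)) ≤ H := by
      rw [← hN]
      intro x hx
      rw [mem_normalizer_iff]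
      intro y
      have hc' : ∀ y ∈ (P : Subgroup (Matrix.ProjectiveSpecialLinearGroup (Fin 2) F)), x * y * x⁻¹ = y := by
        intro y hy
        rw [sylow_comm p P hx hy, mul_inv_cancel_right]
      constructor
      · intro hy
        rwa [hc' y (hQP hy)]
      · intro hy
        have h2 : x * (x * y * x⁻¹) * x⁻¹ = x * y * x⁻¹ := hc' _ (hQP hy)
        have h3 : x * y * x⁻¹ = y := mul_left_cancel (mul_right_cancel h2)
        rwa [h3] at hy
    have hPQ : (P : Subgroup (Matrix.ProjectiveSpecialLinearGroup (Fin 2) F)) = (Q : Subgroup H).map H.subtype := by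
      apply le_antisymm _ hQP
      intro x hx
      have h1 : IsPGroup p ((P : Subgroup (Matrix.ProjectiveSpecialLinearGroup (Fin 2) F)).subgroupOf H) :=
        P.2.comap_of_injective _ H.subtype_injective
      obtain ⟨R, hR⟩ := h1.exists_le_sylow
      have h2 : R = Q := by
        haveI := Sylow.unique_of_normal (p := p) Q hQ
        exact Subsingleton.elim _ _
      rw [h2] at hR
      exact ⟨⟨x, hPH hx⟩, hR (mem_subgroupOf.2 hx), rfl⟩
    rw [hPQ]
    exact hN.symm
  · exact Or.inr (keyT (gen3_cyclic h1))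
  · exact Or.inr (keyT ((gen3_dihedral k).congr e.symm))
  · exact Or.inr (keyT (gen3_a4.congr e.symm))
  · exact Or.inr (keyT (gen3_s4.congr e.symm))
  · exact Or.inr (keyT ((gen3_a5 hg).congr e.symm))
  · exact Or.inr (keyT ((gen3_psl hg L).congr e.symm))
  · right
    by_cases hc : commutator H = ⊥
    · exfalso
      apply psl_not_comm L
      intro a b
      have h1 : ∀ x y : H, x * y = y * x := by
        intro x y
        have h2 : ⁅x, y⁆ ∈ commutator H := by
          rw [_root_.commutator_def]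
          exact Subgroup.commutator_mem_commutator (mem_top _) (mem_top _)
        rw [hc, mem_bot, commutatorElement_eq_one_iff_mul_comm] at h2
        exact h2
      apply Matrix.ProjectiveSpecialLinearGroup.toPGL_injective
      rw [map_mul, map_mul]
      apply e.symm.injective
      rw [map_mul, map_mul]
      exact h1 _ _
    · refine key (commutator H) inferInstance hc ?_
      have h1 : commutator H = (commutator (Matrix.ProjGenLinGroup (Fin 2) L)).map e.symm.toMonoidHom := by
        rw [_root_.commutator_def, _root_.commutator_def, Subgroup.map_commutator, ← MonoidHom.range_eq_map,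
          MonoidHom.range_eq_top.2 e.symm.surjective]
      rw [h1]
      exact (gen3_comm_pgl hg L).congr (Subgroup.equivMapOfInjective _ _ e.symm.injective)

/-- **the number of the local subgroups** -/
theorem ncard_locK (hg : Cfsg.Agent.H59.EP.TwoGen.{0}) (F : Type*) [Field F] [Fintype F] :
    (LocK (Matrix.ProjectiveSpecialLinearGroup (Fin 2) F)).ncard ≤
      Nat.card (Matrix.ProjectiveSpecialLinearGroup (Fin 2) F) +
        Nat.card (Matrix.ProjectiveSpecialLinearGroup (Fin 2) F) ^ 3 := by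
  classical
  obtain ⟨p, hp⟩ := CharP.exists F
  haveI : Fact p.Prime := ⟨CharP.char_is_prime F p⟩
  let S₁ : Set (Subgroup (Matrix.ProjectiveSpecialLinearGroup (Fin 2) F)) :=
    Set.range fun P : Sylow p (Matrix.ProjectiveSpecialLinearGroup (Fin 2) F) =>
      normalizer ((P : Subgroup (Matrix.ProjectiveSpecialLinearGroup (Fin 2) F)) : Set _)
  let S₂ : Set (Subgroup (Matrix.ProjectiveSpecialLinearGroup (Fin 2) F)) :=
    (fun M : Subgroup (Matrix.ProjectiveSpecialLinearGroup (Fin 2) F) => normalizer (M : Set _)) '' {M | Gen3 M}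
  have hsub : LocK (Matrix.ProjectiveSpecialLinearGroup (Fin 2) F) ⊆ S₁ ∪ S₂ := by
    intro H hH
    rcases locK_cases hg p hH with ⟨P, hP⟩ | ⟨M, hM, hM2⟩
    · exact Or.inl ⟨P, hP.symm⟩
    · exact Or.inr ⟨M, hM, hM2.symm⟩
  refine (Set.ncard_le_ncard hsub (Set.toFinite _)).trans ((Set.ncard_union_le _ _).trans (Nat.add_le_add ?_ ?_))
  · have h1 : S₁.ncard ≤ Nat.card (Sylow p (Matrix.ProjectiveSpecialLinearGroup (Fin 2) F)) := by
      show (Set.range _).ncard ≤ _
      rw [← Set.image_univ]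
      refine (Set.ncard_image_le (Set.toFinite _)).trans ?_
      rw [Set.ncard_univ]
    refine h1.trans (Nat.le_of_dvd Nat.card_pos ?_)
    obtain ⟨P⟩ : Nonempty (Sylow p (Matrix.ProjectiveSpecialLinearGroup (Fin 2) F)) := inferInstance
    rw [Sylow.card_eq_index_normalizer P]
    exact Subgroup.index_dvd_card _
  · exact (Set.ncard_image_le (Set.toFinite _)).trans (ncard_gen3 fun M hM => hM)

end

end Cfsg.Agent.H36.EPL
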